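import Groth.Agent.EGA41.K99.NilpPow
import Mathlib.RingTheory.Henselian
import Mathlib.RingTheory.Artinian.Ring
import Mathlib.RingTheory.TensorProduct.Finite
import Mathlib.FieldTheory.PurelyInseparable.Basic
import Mathlib.RingTheory.LocalRing.ResidueField.Basic
import Mathlib.Algebra.CharP.Frobenius

/-!
# `k' ⊗ k'` is strictly henselian for `k'` purely inseparable, generated by a `p`-th root
-/

set_option autoImplicit false
universe u

open TensorProduct

namespace K861.HensTensor

/-- Artinian local rings are henselian. -/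
theorem henselian_of_artinian (C : Type u) [CommRing C] [IsArtinianRing C] [IsLocalRing C] :
    HenselianLocalRing C := by
  obtain ⟨n, hn⟩ := IsArtinianRing.isNilpotent_jacobson_bot (R := C)
  rw [IsLocalRing.jacobson_eq_maximalIdeal ⊥ bot_ne_top] at hn
  have : IsAdicComplete (IsLocalRing.maximalIdeal C) C :=
    K99.NilpPow.isAdicComplete_of_pow_eq_bot (IsLocalRing.maximalIdeal C) n hn C
  constructor
  intro f hf a₀ h₁ h₂
  exact HenselianRing.is_henselian (I := IsLocalRing.maximalIdeal C) f hf a₀ h₁
    (h₂.map (Ideal.Quotient.mk (IsLocalRing.maximalIdeal C)))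

/-- `k' ⊗ k'` is strictly henselian. -/
theorem henselian_tensor (p : ℕ) [Fact p.Prime] (k : Type u) [Field k] [CharP k p] [IsSepClosed k]
    (k' : Type u) [Field k'] [Algebra k k'] (α : k') (a : k) (ha : algebraMap k k' a = α ^ p)
    (hgen : Algebra.adjoin k {α} = ⊤) :
    ∃ _ : HenselianLocalRing (k' ⊗[k] k'), IsSepClosed (IsLocalRing.ResidueField (k' ⊗[k] k')) := by
  have hp : p.Prime := Fact.out
  have hk' : CharP k' p := charP_of_injective_algebraMap (algebraMap k k').injective p
  have hE' : ExpChar k' p := ExpChar.prime hp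
  -- `p`-th powers of elements of `k'`
  have hpow : ∀ x : k', ∃ c : k, x ^ p = algebraMap k k' c := by
    intro x
    have hx : x ∈ Algebra.adjoin k {α} := hgen ▸ Algebra.mem_top
    induction hx using Algebra.adjoin_induction with
    | mem x hx =>
      rw [Set.mem_singleton_iff] at hx
      subst hx
      exact ⟨a, ha.symm⟩
    | algebraMap r => exact ⟨r ^ p, by rw [map_pow]⟩
    | add x y _ _ hx hy =>
      obtain ⟨c, hc⟩ := hx
      obtain ⟨d, hd⟩ := hy
      exact ⟨c + d, by rw [add_pow_expChar, hc, hd, map_add]⟩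
    | mul x y _ _ hx hy =>
      obtain ⟨c, hc⟩ := hx
      obtain ⟨d, hd⟩ := hy
      exact ⟨c * d, by rw [mul_pow, hc, hd, map_mul]⟩
  -- `k'` is finite over `k`
  have hint : IsIntegral k α := by
    refine ⟨Polynomial.X ^ p - Polynomial.C a, Polynomial.monic_X_pow_sub_C a hp.ne_zero, ?_⟩
    simp [ha]
  have hfin : Module.Finite k k' := by
    have h1 := hint.fg_adjoin_singleton
    rw [hgen] at h1
    exact ⟨by simpa using h1⟩
  let μ : k' ⊗[k] k' →ₐ[k] k' := Algebra.TensorProduct.lmul' k
  have hnt : Nontrivial (k' ⊗[k] k') := μ.toRingHom.domain_nontrivial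
  have hR : CharP (k' ⊗[k] k') p := charP_of_injective_algebraMap (algebraMap k (k' ⊗[k] k')).injective p
  have hER : ExpChar (k' ⊗[k] k') p := ExpChar.prime hp
  have hpowR : ∀ z : k' ⊗[k] k', ∃ c : k, z ^ p = algebraMap k (k' ⊗[k] k') c := by
    intro z
    induction z using TensorProduct.induction_on with
    | zero => exact ⟨0, by rw [zero_pow hp.ne_zero, map_zero]⟩
    | add x y hx hy =>
      obtain ⟨c, hc⟩ := hx
      obtain ⟨d, hd⟩ := hy
      exact ⟨c + d, by rw [add_pow_expChar, hc, hd, map_add]⟩
    | tmul x y =>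
      obtain ⟨c, hc⟩ := hpow x
      obtain ⟨d, hd⟩ := hpow y
      refine ⟨c * d, ?_⟩
      rw [Algebra.TensorProduct.tmul_pow, hc, hd, Algebra.TensorProduct.algebraMap_apply, map_mul,
        Algebra.algebraMap_eq_smul_one d, TensorProduct.tmul_smul, TensorProduct.smul_tmul', Algebra.smul_def,
        mul_comm, Algebra.smul_def, mul_one]
  have hunit : ∀ z : k' ⊗[k] k', μ z ≠ 0 → IsUnit z := by
    intro z hz
    obtain ⟨c, hc⟩ := hpowR z
    have hc0 : c ≠ 0 := by
      rintro rfl
      apply hz
      have h1 : μ (z ^ p) = 0 := by rw [hc, map_zero, map_zero]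
      rw [map_pow] at h1
      exact eq_zero_of_pow_eq_zero h1
    have h2 : IsUnit (z ^ p) := by
      rw [hc]
      exact (IsUnit.mk0 c hc0).map _
    exact (isUnit_pow_iff hp.ne_zero).1 h2
  have hloc : IsLocalRing (k' ⊗[k] k') := by
    refine IsLocalRing.of_nonunits_add fun x y hx hy => ?_
    have hx0 : μ x = 0 := by
      by_contra h
      exact hx (hunit x h)
    have hy0 : μ y = 0 := by
      by_contra h
      exact hy (hunit y h)
    intro h
    have h1 : IsUnit (μ (x + y)) := h.map μ
    rw [map_add, hx0, hy0, add_zero] at h1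
    exact not_isUnit_zero h1
  have hfinR : Module.Finite k (k' ⊗[k] k') := inferInstance
  have hart : IsArtinianRing (k' ⊗[k] k') := IsArtinianRing.of_finite k _
  refine ⟨henselian_of_artinian _, ?_⟩
  have hfin2 : Module.Finite k (IsLocalRing.ResidueField (k' ⊗[k] k')) :=
    Module.Finite.of_surjective
      (IsScalarTower.toAlgHom k (k' ⊗[k] k') (IsLocalRing.ResidueField (k' ⊗[k] k'))).toLinearMap
      IsLocalRing.residue_surjective
  exact Algebra.IsAlgebraic.isSepClosed (F := k)

end K861.HensTensor
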