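import Groth.Agent.Dix.K600.AtDef
import Groth.Agent.Etbase.TopInv
import Groth.Agent.FlatA.EtaleSections
import Mathlib.AlgebraicGeometry.Sites.EtalePoint
import Mathlib.RingTheory.Smooth.Basic

/-!
# Points of smooth algebras over separably closed fields; lifting along étale maps
-/

set_option autoImplicit false
universe u

open CategoryTheory CategoryTheory.Limits AlgebraicGeometry

namespace K861.LiftEtale

open K600.AtDef

variable {k : Type u} [Field k]

/-- Morphisms over `Spec k` of spectra of algebras are given by algebra homomorphisms. -/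
theorem exists_spMap {E E' : Type u} [CommRing E] [Algebra k E] [CommRing E'] [Algebra k E']
    (l : sp k E' ⟶ sp k E) : ∃ q : E →ₐ[k] E', spMap q = l := by
  let φ : E →+* E' := (Spec.preimage l.left).hom
  have hφ : Spec.map (CommRingCat.ofHom φ) = l.left := Spec.map_preimage l.left
  have hw : Spec.map (CommRingCat.ofHom φ) ≫ Spec.map (CommRingCat.ofHom (algebraMap k E)) =
      Spec.map (CommRingCat.ofHom (algebraMap k E')) := by
    rw [hφ]
    exact Over.w l
  rw [← Spec.map_comp, ← CommRingCat.ofHom_comp] at hw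
  have hw' := congrArg CommRingCat.Hom.hom (Spec.map_injective hw)
  refine ⟨{ φ with commutes' := fun r => RingHom.congr_fun hw' r }, ?_⟩
  ext1
  exact hφ

theorem spMap_injective {E E' : Type u} [CommRing E] [Algebra k E] [CommRing E'] [Algebra k E']
    {q q' : E →ₐ[k] E'} (h : spMap q = spMap q') : q = q' := by
  have h1 : Spec.map (CommRingCat.ofHom q.toRingHom) = Spec.map (CommRingCat.ofHom q'.toRingHom) :=
    congrArg (fun g => g.left) h
  have h2 := congrArg CommRingCat.Hom.hom (Spec.map_injective h1)
  ext x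
  exact RingHom.congr_fun h2 x

/-- Smooth algebras over separably closed fields have rational points. -/
theorem exists_point [IsSepClosed k] (C : Type u) [CommRing C] [Algebra k C] [Algebra.FinitePresentation k C]
    [Algebra.FormallySmooth k C] [Nontrivial C] : Nonempty (C →ₐ[k] k) := by
  have hsm : Algebra.Smooth k C := ⟨inferInstance, inferInstance⟩
  let g : Spec (CommRingCat.of C) ⟶ Spec (CommRingCat.of k) := Spec.map (CommRingCat.ofHom (algebraMap k C))
  have hg : Smooth g := by
    rw [HasRingHomProperty.Spec_iff (P := @Smooth)]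
    exact RingHom.smooth_algebraMap.2 hsm
  obtain ⟨x⟩ : Nonempty ↥(Spec (CommRingCat.of C)) := inferInstanceAs (Nonempty (PrimeSpectrum C))
  obtain ⟨S', e, s', he, -, h, hh⟩ := Groth.Agent.FlatA.EtaleSections.exists_section g (g x) ⟨x, rfl⟩
  have hsub : Subsingleton ↥(Spec (CommRingCat.of k)) := inferInstanceAs (Subsingleton (PrimeSpectrum k))
  obtain ⟨l, hl, -⟩ := Scheme.exists_fac_of_etale_of_isSepClosed e (𝟙 (Spec (CommRingCat.of k))) s'
    (Subsingleton.elim _ _)
  have hw : (l ≫ h) ≫ g = 𝟙 _ := by rw [Category.assoc, hh, hl]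
  obtain ⟨q, -⟩ := exists_spMap (k := k) (E := C) (E' := k) (Over.homMk (l ≫ h) (by
    change (l ≫ h) ≫ g = Spec.map (CommRingCat.ofHom (RingHom.id k))
    rw [hw, CommRingCat.ofHom_id, Spec.map_id]))
  exact ⟨q⟩

/-- Lifting along an étale map. -/
theorem lift_etale {E E' E'' : Type u} [CommRing E] [Algebra k E] [CommRing E'] [Algebra k E'] [CommRing E'']
    [Algebra k E''] (P : Over (Spec (CommRingCat.of k))) (η : sp k E ⟶ P) [Etale η.left]
    (h : E' →ₐ[k] E'') (hs : Function.Surjective h) (hk : ∀ x y, h x = 0 → h y = 0 → x * y = 0)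
    (Φ : sp k E' ⟶ P) (q₀ : E →ₐ[k] E'') (hq : spMap h ≫ Φ = spMap q₀ ≫ η) :
    ∃ q : E →ₐ[k] E', spMap q ≫ η = Φ ∧ h.comp q = q₀ := by
  let j : Spec (CommRingCat.of E'') ⟶ Spec (CommRingCat.of E') := Spec.map (CommRingCat.ofHom h.toRingHom)
  have hcl : IsClosedImmersion j := IsClosedImmersion.spec_of_surjective _ hs
  have hsurj : Surjective j := by
    refine ⟨fun x => ?_⟩
    have hx : x ∈ Set.range (PrimeSpectrum.comap h.toRingHom) := by
      rw [_root_.range_comap_of_surjective _ _ hs]
      intro a ha
      have h0 : a * a = 0 := hk a a ha ha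
      exact x.2.mem_of_pow_mem 2 (by rw [pow_two, h0]; exact x.1.zero_mem)
    exact hx
  have hw : (spMap q₀).left ≫ η.left = j ≫ Φ.left := by
    have := congrArg (fun g => g.left) hq
    simp only [Over.comp_left] at this
    exact this.symm
  obtain ⟨l, hl1, hl2⟩ := Groth.Agent.Etbase.TopInv.exists_lift_of_univHomeo η.left Φ.left j (spMap q₀).left hw
  obtain ⟨q, hq'⟩ := exists_spMap (k := k) (E := E) (E' := E') (Over.homMk l (by
    rw [← Over.w η, ← Category.assoc, hl1, Over.w]))
  refine ⟨q, ?_, ?_⟩
  · rw [hq']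
    ext1
    exact hl1
  · apply spMap_injective
    ext1
    have h1 : (spMap (h.comp q)).left = j ≫ (spMap q).left := by
      change Spec.map (CommRingCat.ofHom (h.comp q).toRingHom) = Spec.map _ ≫ Spec.map _
      rw [← Spec.map_comp, ← CommRingCat.ofHom_comp]
      rfl
    rw [h1, hq']
    exact hl2

end K861.LiftEtale
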